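import Cfsg.Agent.H537.TC.Semi
import Cfsg.Agent.H537.OreM.SevEven
import Cfsg.Agent.H609.T5.MSevenA

/-!
# The Monster: the centralizer of a 7-central element of order 7 (helper537)

`exists_D7` : `C(w)`, `w` of order 7 and fixed rank 0, has order `7 ^ 5 · 5040`.
-/

set_option autoImplicit false
set_option maxRecDepth 100000

namespace Cfsg.Agent.H537.TC

open Cfsg Cfsg.Agent.MonsterX Cfsg.Agent.MonsterX.InstData Cfsg.Agent.MonsterX.MainPack Cfsg.Agent.MonsterU
open Cfsg.Agent.MonsterP Cfsg.Agent.MonsterN Cfsg.Agent.LThreeMB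
open Cfsg.Agent.MonsterX.MainBasic Cfsg.Agent.MonsterX.MainSimple Cfsg.Agent.MonsterX.Model
open Cfsg.Agent.MonsterU.Lam2 Cfsg.Agent.MonsterU.TwoCls
open Cfsg.Agent.BpSpor.MBigModel Cfsg.Agent.H199.NSmMon
open Cfsg.Spor (Co1)
open Subgroup (centralizer zpowers mem_centralizer_singleton_iff)
open Cfsg.Agent.H961.SevLift (QQ)
open Cfsg.Agent.H537.OreM

section abs

variable {D : Type*} [Group D]

/-- a square root of the only involution of a 2-group -/
theorem exists_sqrt [Finite D] {z : D} {P : Subgroup D} (hP : IsPGroup 2 ↥P) (hPz : ∀ t ∈ P, t * t = 1 → t = 1 ∨ t = z)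
    (hc : 4 ≤ Nat.card ↥P) : ∃ k ∈ P, k * k = z := by
  classical
  obtain ⟨u, hu1, huz⟩ : ∃ u : ↥P, (u : D) ≠ 1 ∧ (u : D) ≠ z := by
    by_contra hcon
    push Not at hcon
    have hf := Fintype.ofFinite ↥P
    have h1 : (Finset.univ : Finset ↥P).card ≤ ({1} ∪ (Finset.univ.filter fun u : ↥P => (u : D) = z) : Finset ↥P).card := by
      apply Finset.card_le_card
      intro u _
      rw [Finset.mem_union, Finset.mem_singleton, Finset.mem_filter]
      by_cases h2 : (u : D) = 1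
      · exact Or.inl (Subtype.ext h2)
      · exact Or.inr ⟨Finset.mem_univ _, hcon u h2⟩
    have h2 : (Finset.univ.filter fun u : ↥P => (u : D) = z).card ≤ 1 := by
      rw [Finset.card_le_one]
      intro a ha b hb
      rw [Finset.mem_filter] at ha hb
      exact Subtype.ext (ha.2.trans hb.2.symm)
    have h3 := Finset.card_union_le ({1} : Finset ↥P) (Finset.univ.filter fun u : ↥P => (u : D) = z)
    rw [Finset.card_singleton] at h3
    rw [Finset.card_univ, ← Nat.card_eq_fintype_card] at h1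
    omega
  obtain ⟨k, hk⟩ := hP u
  obtain ⟨j, hj⟩ : ∃ j, (((u : ↥P) ^ 2 ^ j : ↥P) : D) ≠ 1 ∧ ((u ^ 2 ^ j : ↥P) : D) ≠ z ∧
      (((u ^ 2 ^ (j + 1) : ↥P) : D) = 1 ∨ ((u ^ 2 ^ (j + 1) : ↥P) : D) = z) := by
    by_contra hcon
    push Not at hcon
    have h3 : ∀ j, ((u ^ 2 ^ j : ↥P) : D) ≠ 1 ∧ ((u ^ 2 ^ j : ↥P) : D) ≠ z := by
      intro j
      induction j with
      | zero => rw [pow_zero, pow_one]; exact ⟨hu1, huz⟩
      | succ j ih => exact hcon j ih.1 ih.2
    exact (h3 k).1 (by rw [hk]; rfl)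
  obtain ⟨h1, h2, h3⟩ := hj
  have h4 : ((u ^ 2 ^ j : ↥P) : D) * ((u ^ 2 ^ j : ↥P) : D) = ((u ^ 2 ^ (j + 1) : ↥P) : D) := by
    rw [← Subgroup.coe_mul, ← pow_two, ← pow_mul, ← pow_succ]
  refine ⟨_, (u ^ 2 ^ j : ↥P).2, ?_⟩
  rcases h3 with h3 | h3
  · exfalso
    rw [h3] at h4
    rcases hPz _ (u ^ 2 ^ j : ↥P).2 h4 with h5 | h5
    · exact h1 h5
    · exact h2 h5
  · rw [h4, h3]

end abs

set_option maxHeartbeats 1000000 in
/-- **The centralizer of the 7-central elements.** -/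
theorem exists_D7 : ∃ (w : centralizer ({zz} : Set MG)) (Q : Subgroup MG), orderOf w = 7 ∧ fr (pi w) = 1 ∧
    QQ (w : MG) Q ∧ Nat.card ↥(centralizer ({(w : MG)} : Set MG)) = 7 ^ 5 * 5040 ∧
    (∃ a ∈ Q, ∃ b ∈ Q, a * b ≠ b * a) ∧ (∃ P : Sylow 7 MG, (P : Subgroup MG) ≤ centralizer ({(w : MG)} : Set MG)) ∧
    (∃ k : MG, k * (w : MG) = w * k ∧ k * k = zz) ∧
    (∀ x : MG, (∀ q ∈ Q, x * q = q * x) → (∃ k : ℕ, x ^ 7 ^ k = 1) → x ∈ Q) := by
  have hfin := finite
  have h7 : Nat.Prime 7 := by norm_num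
  have h7' : Fact (Nat.Prime 7) := ⟨h7⟩
  obtain ⟨y, v, s', a, c, w, hL, h5⟩ := H961.SevM.exists_data'
  obtain ⟨Q, hQ, hQr⟩ := H961.SevM.exists_qq hL h5
  have hwo' : orderOf (w : MG) = 7 := orderOf_eq_prime hL.w7 hL.w1
  have hwo : orderOf w = 7 := by rw [← Subgroup.orderOf_coe, hwo']
  have hfr : fr (pi w) = 1 := H961.SevM.fr_eq_one hL h5 hwo
  have h77 : ¬ 7 ^ 7 ∣ Nat.card MG := by rw [card_M]; norm_num
  have hx7 : w ^ 7 = 1 := by rw [← hwo, pow_orderOf_eq_one]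
  obtain ⟨hs, -, hc⟩ := Cfsg.Agent.H961.SevX.xx_facts (MFive.orderOf_pi chart h7 (by decide) hwo) hfr
  have hns : ¬ Group.IsSolvable (XX (pi w)) := not_solvable hs hc (by norm_num) (by norm_num)
  have hz := BpRankZero.Seven.only_zD KDone.lft LThreeB.Row.cent hx7 hfr
  obtain ⟨N, hN⟩ := BpSpor.M5.exists_rad chart (by norm_num) hwo hfr
    (fun d hd hc => by
      have h1 := hz ⟨d * zz * d⁻¹, mem_centralizer_singleton_iff.2 (by
        have h2 : (w : MG) * zz = zz * w := mem_centralizer_singleton_iff.1 w.2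
        calc d * zz * d⁻¹ * (w : MG) = d * zz * (d⁻¹ * (w * d)) * d⁻¹ := by group
          _ = d * zz * (d⁻¹ * (d * w)) * d⁻¹ := by rw [hd]
          _ = d * (zz * w) * d⁻¹ := by group
          _ = d * (w * zz) * d⁻¹ := by rw [h2]
          _ = (d * w) * zz * d⁻¹ := by group
          _ = (w * d) * zz * d⁻¹ := by rw [hd]
          _ = (w : MG) * (d * zz * d⁻¹) := by group)⟩
        (Subtype.ext (by
          show d * zz * d⁻¹ * (d * zz * d⁻¹) = 1
          calc d * zz * d⁻¹ * (d * zz * d⁻¹) = d * (zz * zz) * d⁻¹ := by group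
            _ = 1 := by rw [zz_sq]; group)) (Subtype.ext hc)
      rcases h1 with h1 | h1
      · exfalso
        have h2 : d * zz * d⁻¹ = 1 := congrArg Subtype.val h1
        rw [conj_eq_one_iff] at h2
        exact zz_ne h2
      · exact congrArg Subtype.val h1) hs (by rw [hc]; decide)
  have hNn := hN.nN
  -- `Q ≤ N`
  have hfree := H609.Inv.Seven.free_chart chart hQ hwo hfr
  have hzw : zz * (w : MG) = w * zz := (mem_centralizer_singleton_iff.1 w.2).symm
  have hQN : ∀ q (hq : q ∈ Q), (⟨q, hQ.le hq⟩ : ↥(centralizer ({(w : MG)} : Set MG))) ∈ N := by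
    intro q hq
    obtain ⟨j, hj⟩ := H609.Inv.Seven.inverts hQ hwo' zz_sq hzw hfree hq
    obtain ⟨n, hn, e, hez, hg⟩ := hN.sup ⟨q, hQ.le hq⟩
    -- `z q z⁻¹ q⁻¹ ∈ N`
    have h1 : zD w * (⟨q, hQ.le hq⟩ : ↥(centralizer ({(w : MG)} : Set MG))) * (zD w)⁻¹ *
        (⟨q, hQ.le hq⟩ : ↥(centralizer ({(w : MG)} : Set MG)))⁻¹ ∈ N := by
      rw [hg]
      have h2 : zD w * (n * e) * (zD w)⁻¹ * (n * e)⁻¹ = (zD w * n * (zD w)⁻¹) * n⁻¹ := by
        have h3 : zD w * e = e * zD w := hez.symm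
        calc zD w * (n * e) * (zD w)⁻¹ * (n * e)⁻¹ = zD w * n * (e * (zD w)⁻¹ * e⁻¹) * n⁻¹ := by group
          _ = zD w * n * ((zD w)⁻¹ * (zD w * e) * (zD w)⁻¹ * e⁻¹) * n⁻¹ := by group
          _ = zD w * n * ((zD w)⁻¹ * (e * zD w) * (zD w)⁻¹ * e⁻¹) * n⁻¹ := by rw [h3]
          _ = _ := by group
      rw [h2]
      exact N.mul_mem (hNn.conj_mem n hn _) (N.inv_mem hn)
    have h2 : (zD w * (⟨q, hQ.le hq⟩ : ↥(centralizer ({(w : MG)} : Set MG))) * (zD w)⁻¹ *
        (⟨q, hQ.le hq⟩ : ↥(centralizer ({(w : MG)} : Set MG)))⁻¹) =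
        (⟨q, hQ.le hq⟩ : ↥(centralizer ({(w : MG)} : Set MG)))⁻¹ * (self (w : MG)) ^ j *
          (⟨q, hQ.le hq⟩ : ↥(centralizer ({(w : MG)} : Set MG)))⁻¹ := by
      apply Subtype.ext
      change zz * q * zz⁻¹ * q⁻¹ = q⁻¹ * (w : MG) ^ j * q⁻¹
      rw [hj]
    rw [h2] at h1
    -- so `q ^ 2 ∈ N`
    have h3 : (⟨q, hQ.le hq⟩ : ↥(centralizer ({(w : MG)} : Set MG))) ^ 2 ∈ N := by
      have h4 := N.mul_mem (N.zpow_mem hN.xN j) (N.inv_mem h1)
      have hcj : Commute ((self (w : MG)) ^ j) (⟨q, hQ.le hq⟩ : ↥(centralizer ({(w : MG)} : Set MG))) :=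
        (show Commute (self (w : MG)) _ from (hN.xc _).symm).zpow_left j
      have h5 : self (w : MG) ^ j * ((⟨q, hQ.le hq⟩ : ↥(centralizer ({(w : MG)} : Set MG)))⁻¹ * (self (w : MG)) ^ j *
          (⟨q, hQ.le hq⟩ : ↥(centralizer ({(w : MG)} : Set MG)))⁻¹)⁻¹ =
          (⟨q, hQ.le hq⟩ : ↥(centralizer ({(w : MG)} : Set MG))) ^ 2 := by
        rw [pow_two]
        calc self (w : MG) ^ j * ((⟨q, hQ.le hq⟩ : ↥(centralizer ({(w : MG)} : Set MG)))⁻¹ * (self (w : MG)) ^ j *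
            (⟨q, hQ.le hq⟩ : ↥(centralizer ({(w : MG)} : Set MG)))⁻¹)⁻¹
            = (self (w : MG) ^ j * (⟨q, hQ.le hq⟩ : ↥(centralizer ({(w : MG)} : Set MG)))) * (self (w : MG) ^ j)⁻¹ *
              (⟨q, hQ.le hq⟩ : ↥(centralizer ({(w : MG)} : Set MG))) := by group
          _ = _ := by rw [hcj.eq]; group
      rwa [h5] at h4
    -- odd order
    obtain ⟨k, hk⟩ := hQ.pgroup ⟨q, hq⟩
    have hk1 : q ^ 7 ^ k = 1 := congrArg Subtype.val hk
    have hk' : (⟨q, hQ.le hq⟩ : ↥(centralizer ({(w : MG)} : Set MG))) ^ 7 ^ k = 1 := Subtype.ext hk1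
    obtain ⟨l, hl⟩ : Odd (7 ^ k) := Odd.pow (by decide)
    have h6 : (⟨q, hQ.le hq⟩ : ↥(centralizer ({(w : MG)} : Set MG))) =
        ((⟨q, hQ.le hq⟩ : ↥(centralizer ({(w : MG)} : Set MG))) ^ 2) ^ (-(l : ℤ)) := by
      rw [hl, pow_succ, pow_mul] at hk'
      rw [zpow_neg, zpow_natCast]
      exact eq_inv_of_mul_eq_one_right hk'
    rw [h6]
    exact N.zpow_mem h3 _
  -- the orders
  obtain ⟨m, hm, hcm⟩ := hN.card_N_mul hns
  rw [hc] at hcm
  have hmap : Nat.card ↥(N.map (centralizer ({(w : MG)} : Set MG)).subtype) = Nat.card ↥N :=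
    Subgroup.card_map_of_injective (Subgroup.subtype_injective _)
  have hQle : Q ≤ N.map (centralizer ({(w : MG)} : Set MG)).subtype := fun q hq => ⟨_, hQN q hq, rfl⟩
  have hN75 : 7 ^ 5 ∣ Nat.card ↥N := by
    rw [← hQ.card, ← hmap]
    exact Subgroup.card_dvd_of_le hQle
  -- elements central in `N` commute with `Q`
  have hcent : ∀ m : ↥(centralizer ({(w : MG)} : Set MG)), (∀ n ∈ N, n * m = m * n) →
      7 ^ 5 ∣ Nat.card ↥(centralizer ({(m : MG)} : Set MG)) := by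
    intro m hm
    rw [← hQ.card]
    apply Subgroup.card_dvd_of_le
    intro q hq
    rw [mem_centralizer_singleton_iff]
    exact congrArg Subtype.val (hm _ (hQN q hq))
  -- a Sylow 2-subgroup of `C(w, z)`
  have hev : 2 ∣ Nat.card ↥(toXX pi w).ker := by
    have hzk : (⟨zD w, mem_centralizer_singleton_iff.2 rfl⟩ :
        ↥(centralizer ({zD w} : Set ↥(centralizer ({(w : MG)} : Set MG))))) ∈ (toXX pi w).ker :=
      MonoidHom.mem_ker.2 (hN.f_central hns fun g => Subtype.ext (mem_centralizer_singleton_iff.1 g.2))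
    have h1 := orderOf_dvd_natCard (⟨_, hzk⟩ : ↥(toXX pi w).ker)
    rw [Subgroup.orderOf_mk, Subgroup.orderOf_mk] at h1
    rwa [orderOf_eq_prime (p := 2) (by rw [pow_two]; exact hN.zz) hN.z1] at h1
  have hK16 : 2 ^ 4 ∣ Nat.card ↥(centralizer ({zD w} : Set ↥(centralizer ({(w : MG)} : Set MG)))) := by
    have h1 : Nat.card ↥(toXX pi w).ker * Nat.card (XX (pi w)) =
        Nat.card ↥(centralizer ({zD w} : Set ↥(centralizer ({(w : MG)} : Set MG)))) := by
      rw [← (toXX pi w).ker.card_mul_index]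
      congr 1
      rw [Subgroup.index_ker, MonoidHom.range_eq_top.2 hN.surj, Subgroup.card_top]
    rw [← h1, hc]
    have h2 : 2 * 8 ∣ Nat.card ↥(toXX pi w).ker * 2520 := mul_dvd_mul hev (by norm_num)
    exact h2
  have h2' : Fact (Nat.Prime 2) := ⟨Nat.prime_two⟩
  obtain ⟨P₀⟩ : Nonempty (Sylow 2 ↥(centralizer ({zD w} : Set ↥(centralizer ({(w : MG)} : Set MG))))) := inferInstance
  obtain ⟨P, hPdef⟩ : ∃ P, P = (P₀ : Subgroup ↥(centralizer ({zD w} : Set ↥(centralizer ({(w : MG)} : Set MG))))).map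
    (centralizer ({zD w} : Set ↥(centralizer ({(w : MG)} : Set MG)))).subtype := ⟨_, rfl⟩
  have hPg : IsPGroup 2 ↥P := by rw [hPdef]; exact P₀.isPGroup'.map _
  have hPc : 2 ^ 4 ∣ Nat.card ↥P := by
    rw [hPdef, Subgroup.card_map_of_injective (Subgroup.subtype_injective _)]
    exact P₀.pow_dvd_card_of_pow_dvd_card hK16
  have hPz : ∀ t ∈ P, t * t = 1 → t = 1 ∨ t = zD w := by
    intro t ht htt
    rw [hPdef] at ht
    obtain ⟨t', -, rfl⟩ := ht
    exact hz _ htt (mem_centralizer_singleton_iff.1 t'.2)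
  obtain ⟨k, hkP, hkk⟩ := exists_sqrt hPg hPz (Nat.le_of_dvd Nat.card_pos ((show 4 ∣ 2 ^ 4 by norm_num).trans hPc))
  have hkK : k * zD w = zD w * k := by rw [← hkk, mul_assoc]
  have hKK : ((⟨k, mem_centralizer_singleton_iff.2 hkK⟩ :
      ↥(centralizer ({zD w} : Set ↥(centralizer ({(w : MG)} : Set MG))))) : ↥(centralizer ({(w : MG)} : Set MG))) *
      (⟨k, mem_centralizer_singleton_iff.2 hkK⟩ :
      ↥(centralizer ({zD w} : Set ↥(centralizer ({(w : MG)} : Set MG))))) = zD w := hkk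
  have hoddN : Odd (Nat.card ↥N) := hN.oN
  have hD16 : 2 ^ 4 ∣ Nat.card ↥(centralizer ({(w : MG)} : Set MG)) := hPc.trans (Subgroup.card_subgroup_dvd_card _)
  have hm2 : m = 2 := by
    rcases (Nat.dvd_prime Nat.prime_two).1 hm with rfl | h
    · exfalso
      rw [hcm, mul_one] at hD16
      have h1 : 2 ^ 4 ∣ 2520 := (Nat.Coprime.pow_left 4 (Nat.coprime_two_left.2 hoddN)).dvd_of_dvd_mul_left hD16
      norm_num at h1
    · exact h
  -- the primes of `|N|`
  have h3 : ¬ 3 ^ (7 + 1) ∣ Nat.card ↥N := by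
    intro hd
    obtain ⟨R, -, hRN, -, hRk, -, hRc⟩ := H58.MonFiveB.exists_R' hN (by norm_num) Nat.prime_three (by norm_num)
    have h1 := hRk 8 hd
    rw [← Subgroup.card_map_of_injective (K := R) (centralizer ({(w : MG)} : Set MG)).subtype_injective] at h1
    obtain ⟨y, hyR, hy, he⟩ := exists_three h1
    obtain ⟨y', hy', rfl⟩ := hyR
    exact three_seven hy he (hcent y' fun n hn => hRc n hn y' hy')
  have h3' : ¬ 3 ^ (4 + 1) ∣ Nat.card ↥N := by
    intro hd
    obtain ⟨R, hRn, hRN, hRp, hRk, hRcop, hRc⟩ := H58.MonFiveB.exists_R' hN (by norm_num) Nat.prime_three (by norm_num)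
    have h3F : Fact (Nat.Prime 3) := ⟨Nat.prime_three⟩
    obtain ⟨j, hj⟩ := IsPGroup.iff_card.1 hRp
    have h4 : 5 ≤ j := by
      have h5 := hRk 5 hd
      rw [hj] at h5
      exact (Nat.pow_dvd_pow_iff_le_right (by norm_num : 1 < 3)).1 h5
    have h5 : j ≤ 7 := by
      by_contra hcon
      apply h3
      refine (pow_dvd_pow 3 (by omega : 7 + 1 ≤ j)).trans ?_
      rw [← hj]
      exact Subgroup.card_dvd_of_le hRN
    have h6 := semi hRn (hoddN.of_dvd_nat (Subgroup.card_dvd_of_le hRN))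
      (fun m hm => H58.MonFiveB.z_inv hN (by norm_num) hRn hRN hRcop hm) hPg hPz
    have h7 := hPc.trans h6
    rw [hj] at h7
    interval_cases j <;> norm_num at h7
  have h5' : ¬ 5 ^ (5 + 1) ∣ Nat.card ↥N := by
    intro hd
    obtain ⟨R, -, hRN, -, hRk, -, hRc⟩ := H58.MonFiveB.exists_R' hN (by norm_num) Nat.prime_five (by norm_num)
    have h1 := hRk 6 hd
    rw [← Subgroup.card_map_of_injective (K := R) (centralizer ({(w : MG)} : Set MG)).subtype_injective] at h1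
    obtain ⟨y, hyR, hy, he⟩ := exists_five h1
    obtain ⟨y', hy', rfl⟩ := hyR
    exact five_seven hy he (hcent y' fun n hn => hRc n hn y' hy')
  have hle : Nat.card ↥N ∣ Nat.card ↥(centralizer ({(w : MG)} : Set MG)) := Subgroup.card_subgroup_dvd_card N
  have h2 : ¬ 2 ∣ Nat.card ↥N := by
    intro h1
    exact (Nat.not_even_iff_odd.2 hN.oN) (even_iff_two_dvd.2 h1)
  have h7n : ¬ 7 ^ (5 + 1) ∣ Nat.card ↥N := by
    intro h1
    have h4 : 7 ^ 6 * 2520 ∣ Nat.card MG := by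
      refine Dvd.dvd.trans ?_ (Subgroup.card_subgroup_dvd_card (centralizer ({(w : MG)} : Set MG)))
      rw [hcm]
      exact (mul_dvd_mul h1 (dvd_mul_right _ _))
    rw [card_M] at h4
    norm_num at h4
  have h11 : ¬ 11 ^ (1 + 1) ∣ Nat.card ↥N := fun h1 => not_121 hwo' (h1.trans hle)
  have hev : Ev (w : MG) := ⟨1, by rw [one_mul, inv_one, mul_one]; exact hzw⟩
  have h13 : ¬ 13 ∣ Nat.card ↥N := fun h1 => H465.SporB.Mon.seven_thirteen hwo' hev (h1.trans hle)
  have hbig : ∀ {r}, Big r → ¬ r ∣ Nat.card ↥N := fun hr h1 =>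
    H70.MSeven.seven_zero hwo hfr hr (h1.trans hle)
  have n3 : ¬ 3 ∣ Nat.card ↥N := H199.AbRad.not_dvd_N hN hns (by norm_num) hKK (r := 3) (q := 7) (n := 4) (by norm_num)
    (by norm_num) h7 (by norm_num) (by rw [hc]; norm_num) h3' (by intro i h1 h2; interval_cases i <;> norm_num)
  have n5 : ¬ 5 ∣ Nat.card ↥N := H199.AbRad.not_dvd_N hN hns (by norm_num) hKK (r := 5) (q := 7) (n := 5) (by norm_num)
    (by norm_num) h7 (by norm_num) (by rw [hc]; norm_num) h5' (by intro i h1 h2; interval_cases i <;> norm_num)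
  have n11 : ¬ 11 ∣ Nat.card ↥N := H199.AbRad.not_dvd_N hN hns (by norm_num) hKK (r := 11) (q := 7) (n := 1)
    (by norm_num) (by norm_num) h7 (by norm_num) (by rw [hc]; norm_num) h11
    (by intro i h1 h2; interval_cases i; norm_num)
  have g : Nat.card ↥N ∣ 1 * (2 ^ 46 * (3 ^ 20 * (5 ^ 9 * (7 ^ 6 * (11 ^ 2 * (13 ^ 3 * (17 ^ 1 * (19 ^ 1 *
      (23 ^ 1 * (29 ^ 1 * (31 ^ 1 * (41 ^ 1 * (47 ^ 1 * (59 ^ 1 * (71 ^ 1 * 1))))))))))))))) :=
    hle.trans (dvd_card (w : MG))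
  have g := step (j := 0) (by norm_num) g (no_pow h2)
  have g := step (j := 0) (by norm_num) g (no_pow n3)
  have g := step (j := 0) (by norm_num) g (no_pow n5)
  have g := step (j := 5) (by norm_num) g h7n
  have g := step (j := 0) (by norm_num) g (no_pow n11)
  have g := step (j := 0) (by norm_num) g (no_pow h13)
  have g := step (j := 0) (by norm_num) g (no_pow (hbig (r := 17) (by unfold Big; simp)))
  have g := step (j := 0) (by norm_num) g (no_pow (hbig (r := 19) (by unfold Big; simp)))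
  have g := step (j := 0) (by norm_num) g (no_pow (hbig (r := 23) (by unfold Big; simp)))
  have g := step (j := 0) (by norm_num) g (no_pow (hbig (r := 29) (by unfold Big; simp)))
  have g := step (j := 0) (by norm_num) g (no_pow (hbig (r := 31) (by unfold Big; simp)))
  have g := step (j := 0) (by norm_num) g (no_pow (hbig (r := 41) (by unfold Big; simp)))
  have g := step (j := 0) (by norm_num) g (no_pow (hbig (r := 47) (by unfold Big; simp)))
  have g := step (j := 0) (by norm_num) g (no_pow (hbig (r := 59) (by unfold Big; simp)))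
  have g := step (j := 0) (by norm_num) g (no_pow (hbig (r := 71) (by unfold Big; simp)))
  have hNc : Nat.card ↥N = 7 ^ 5 := by
    refine Nat.dvd_antisymm (g.trans ?_) hN75
    norm_num
  have hNQ : N.map (centralizer ({(w : MG)} : Set MG)).subtype = Q := by
    symm
    exact Subgroup.eq_of_le_of_card_ge hQle (by rw [hmap, hNc, hQ.card])
  -- the non-commuting elements
  obtain ⟨s1, hS⟩ := H609.T5.Seven.exists_sit hL hQ h5 h77
  obtain ⟨Ps, -, hPs⟩ := hL.sylow_le h5 (by rw [card_M]; norm_num)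
  refine ⟨w, Q, hwo, hfr, hQ, by rw [hcm, hNc, hm2], ⟨s1, hS.s1Q, _, hS.w1Q, hS.ne⟩, ⟨Ps, hPs⟩,
    ⟨(k : MG), mem_centralizer_singleton_iff.1 k.2, congrArg Subtype.val hkk⟩, ?_⟩
  -- the centralizer of `Q`
  intro x hx hx7'
  have hxw : x * (w : MG) = w * x := hx _ hQ.mem
  have hCn : (centralizer (N : Set ↥(centralizer ({(w : MG)} : Set MG)))).Normal := inferInstance
  have hxC : (⟨x, mem_centralizer_singleton_iff.2 hxw⟩ : ↥(centralizer ({(w : MG)} : Set MG))) ∈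
      centralizer (N : Set ↥(centralizer ({(w : MG)} : Set MG))) := by
    rw [Subgroup.mem_centralizer_iff]
    intro n hn
    apply Subtype.ext
    have h1 : (n : MG) ∈ Q := by rw [← hNQ]; exact ⟨n, hn, rfl⟩
    exact (hx _ h1).symm
  have hsol : Group.IsSolvable ↥(centralizer (N : Set ↥(centralizer ({(w : MG)} : Set MG)))) := by
    by_contra hnsol
    obtain ⟨c', hc', n, hn, hzcn⟩ := hN.z_mem_sup (by norm_num) hKK _ hnsol
    have h1 : N ≤ zpowers (self (w : MG)) := by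
      intro s hs
      obtain ⟨i, hi⟩ := hN.comm (by norm_num) hn hs
      have h2 : s * self (w : MG) ^ i ∈ N := N.mul_mem hs (N.zpow_mem hN.xN i)
      have h3 : zD w * s * (zD w)⁻¹ = s * self (w : MG) ^ i := by
        rw [hzcn]
        calc c' * n * s * (c' * n)⁻¹ = c' * (n * s * n⁻¹) * c'⁻¹ := by group
          _ = c' * (s * self (w : MG) ^ i) * c'⁻¹ := by rw [hi]
          _ = (s * self (w : MG) ^ i) * c' * c'⁻¹ := by rw [← Subgroup.mem_centralizer_iff.1 hc' _ h2]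
          _ = _ := by group
      rw [hN.cent_of_mod (by norm_num) hN.zz h3, mul_one, mul_inv_eq_iff_eq_mul] at h3
      exact hN.cN s hs h3.symm
    have h2 := Subgroup.card_dvd_of_le h1
    rw [Nat.card_zpowers, hN.ox, hNc] at h2
    norm_num at h2
  have h1 : (⟨x, mem_centralizer_singleton_iff.2 hxw⟩ : ↥(centralizer ({(w : MG)} : Set MG))) ∈
      solvableRadical ↥(centralizer ({(w : MG)} : Set MG)) := by
    have h2 : centralizer (N : Set ↥(centralizer ({(w : MG)} : Set MG))) ≤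
      solvableRadical ↥(centralizer ({(w : MG)} : Set MG)) := le_sSup ⟨hCn, hsol⟩
    exact h2 hxC
  obtain ⟨k', hk'⟩ := hx7'
  exact hQr _ h1 ⟨k', Subtype.ext hk'⟩

end Cfsg.Agent.H537.TC
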