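import Mathlib

/-!
# A 2-group whose only involution inverts a subgroup acts semiregularly (helper537)
-/

set_option autoImplicit false

namespace Cfsg.Agent.H537.TC

open Subgroup

section

variable {D : Type*} [Group D] [Finite D]

/-- **Semiregular action**: `|P|` divides `|R| - 1`. -/
theorem semi {z : D} {R : Subgroup D} (hR : R.Normal) (hodd : Odd (Nat.card ↥R)) (hinv : ∀ m ∈ R, z * m * z⁻¹ = m⁻¹)
    {P : Subgroup D} (hP : IsPGroup 2 ↥P) (hPz : ∀ t ∈ P, t * t = 1 → t = 1 ∨ t = z) :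
    Nat.card ↥P ∣ Nat.card ↥R - 1 := by
  classical
  let act : MulAction ↥P {m : ↥R // m ≠ 1} :=
    { smul := fun g m => ⟨⟨(g : D) * (m : ↥R) * (g : D)⁻¹, hR.conj_mem _ (m : ↥R).2 _⟩, fun h => m.2 (by
        have h1 : (g : D) * (m : ↥R) * (g : D)⁻¹ = 1 := congrArg Subtype.val h
        rw [conj_eq_one_iff] at h1
        exact Subtype.ext h1)⟩
      one_smul := fun m => by
        apply Subtype.ext; apply Subtype.ext
        show ((1 : ↥P) : D) * (m : ↥R) * ((1 : ↥P) : D)⁻¹ = (m : ↥R)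
        rw [Subgroup.coe_one]; group
      mul_smul := fun a b m => by
        apply Subtype.ext; apply Subtype.ext
        show ((a * b : ↥P) : D) * (m : ↥R) * ((a * b : ↥P) : D)⁻¹ = (a : D) * ((b : D) * (m : ↥R) * (b : D)⁻¹) * (a : D)⁻¹
        rw [Subgroup.coe_mul]; group }
  have key : ∀ (g : ↥P) (m : {m : ↥R // m ≠ 1}), g • m = m → g = 1 := by
    intro g m hgm
    by_contra hg
    have h1 : (g : D) * (m : ↥R) * (g : D)⁻¹ = (m : ↥R) := congrArg (fun a : {m : ↥R // m ≠ 1} => ((a : ↥R) : D)) hgm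
    have h2 : Commute (g : D) (m : ↥R) := mul_inv_eq_iff_eq_mul.1 h1
    -- an involution in `⟨g⟩`
    obtain ⟨k, hk⟩ := hP g
    obtain ⟨j, hj⟩ : ∃ j, (g : ↥P) ^ 2 ^ j ≠ 1 ∧ g ^ 2 ^ (j + 1) = 1 := by
      by_contra hcon
      push_neg at hcon
      have h3 : ∀ j, g ^ 2 ^ j ≠ 1 := by
        intro j
        induction j with
        | zero => rwa [pow_zero, pow_one]
        | succ j ih => exact hcon j ih
      exact h3 k hk
    have h3 : ((g ^ 2 ^ j : ↥P) : D) = 1 ∨ ((g ^ 2 ^ j : ↥P) : D) = z := by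
      apply hPz _ (g ^ 2 ^ j : ↥P).2
      have h4 : (g ^ 2 ^ j : ↥P) * g ^ 2 ^ j = 1 := by rw [← pow_two, ← pow_mul, ← pow_succ]; exact hj.2
      exact congrArg Subtype.val h4
    rcases h3 with h3 | h3
    · exact hj.1 (Subtype.ext h3)
    · have h4 : Commute z ((m : ↥R) : D) := by
        rw [← h3, Subgroup.coe_pow]
        exact h2.pow_left _
      have h5 := hinv _ (m : ↥R).2
      rw [h4.eq, mul_inv_cancel_right] at h5
      have h6 : (m : ↥R) ^ 2 = 1 := by
        apply Subtype.ext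
        show (((m : ↥R) : D)) ^ 2 = 1
        rw [pow_two]
        nth_rw 1 [h5]
        exact inv_mul_cancel _
      have h7 : orderOf (m : ↥R) ∣ Nat.gcd 2 (Nat.card ↥R) := Nat.dvd_gcd (orderOf_dvd_of_pow_eq_one h6) (orderOf_dvd_natCard _)
      rw [Nat.Coprime.gcd_eq_one (Nat.coprime_two_left.2 hodd), Nat.dvd_one, orderOf_eq_one_iff] at h7
      exact m.2 h7
  have hc : Nat.card {m : ↥R // m ≠ 1} = Nat.card ↥R - 1 := by
    have := Fintype.ofFinite ↥R
    rw [Nat.card_eq_fintype_card, Nat.card_eq_fintype_card, Fintype.card_subtype_compl, Fintype.card_subtype_eq]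
  rw [← hc]
  have hs : ∀ m : {m : ↥R // m ≠ 1}, MulAction.stabilizer ↥P m = ⊥ := fun m => by
    rw [eq_bot_iff]
    intro g hg
    rw [Subgroup.mem_bot]
    exact key g m hg
  have e := MulAction.selfEquivOrbitsQuotientProd hs
  rw [Nat.card_congr e, Nat.card_prod]
  exact dvd_mul_left _ _

end

end Cfsg.Agent.H537.TC
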