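import Cfsg.Agent.H537.TC.DSeven
import Cfsg.Agent.H537.OreM.Sev17
import Cfsg.Agent.H845.HNSeven
import Cfsg.Agent.H153.ZerosHe
import Cfsg.Agent.SmallSimple.Embed

/-!
# The Monster: elements of order 7 (helper537)

* `cases7` : `|C(x)|` for `x` of order 7 commuting with a conjugate of `z`;
* `n76` : `7 ^ 6` does not divide `|C(x)|`, `x` of order 7 not commuting with a conjugate of `z`;
* `even_of_five` : elements of order 7 commuting with an even element of order 5.
-/

set_option autoImplicit false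
set_option maxRecDepth 100000

namespace Cfsg.Agent.H537.TC

open Cfsg Cfsg.Agent.MonsterX Cfsg.Agent.MonsterX.InstData Cfsg.Agent.MonsterX.MainPack Cfsg.Agent.MonsterU
open Cfsg.Agent.MonsterP Cfsg.Agent.MonsterN Cfsg.Agent.LThreeMB
open Cfsg.Agent.MonsterX.MainBasic Cfsg.Agent.MonsterX.MainSimple Cfsg.Agent.MonsterX.Model
open Cfsg.Agent.MonsterU.Lam2 Cfsg.Agent.MonsterU.TwoCls
open Cfsg.Agent.BpSpor.MBigModel Cfsg.Agent.H199.NSmMon
open Cfsg.Spor (Co1)
open Subgroup (centralizer zpowers mem_centralizer_singleton_iff)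
open Cfsg.Agent.H961.SevLift (QQ)
open Cfsg.Agent.H537.OreM

/-- Sylow subgroups of prime order -/
theorem card_of_sylow {G : Type*} [Group G] [Finite G] {p : ℕ} (hp : p.Prime) (h2 : ¬ p ^ 2 ∣ Nat.card G) {x y : G}
    (hx : orderOf x = p) (hy : orderOf y = p) :
    Nat.card ↥(centralizer ({x} : Set G)) = Nat.card ↥(centralizer ({y} : Set G)) := by
  obtain ⟨g, hg⟩ := conj_zpowers hp h2 hx hy
  have hgx : orderOf (g * x * g⁻¹) = p := by
    rw [← hx]
    exact MulEquiv.orderOf_eq (MulAut.conj g) x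
  have h3 : zpowers (g * x * g⁻¹) = zpowers y := by
    apply Subgroup.eq_of_le_of_card_ge (Subgroup.zpowers_le.2 hg)
    rw [Nat.card_zpowers, Nat.card_zpowers, hgx, hy]
  have h4 : centralizer ({g * x * g⁻¹} : Set G) = centralizer ({y} : Set G) := by
    have key : ∀ {a b : G}, a ∈ zpowers b → centralizer ({b} : Set G) ≤ centralizer ({a} : Set G) := by
      intro a b hab c hc
      obtain ⟨i, rfl⟩ := Subgroup.mem_zpowers_iff.1 hab
      rw [mem_centralizer_singleton_iff] at hc ⊢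
      exact ((show Commute c b from hc).zpow_right i).eq
    apply le_antisymm
    · apply key
      rw [h3]
      exact Subgroup.mem_zpowers y
    · exact key hg
  rw [← BpSpor.card_cent_of_conj (rfl : g * x * g⁻¹ = g * x * g⁻¹), h4]

/-- **order 7, commuting with a conjugate of `z`** -/
theorem cases7 {x : MG} (hx : orderOf x = 7) (he : Ev x) :
    (∃ x' : centralizer ({zz} : Set MG), orderOf x' = 7 ∧ (∃ g : MG, g * x * g⁻¹ = x') ∧
      Nonempty (XX (x' : MG) ≃* Spor.He) ∧ Nat.card ↥(centralizer ({x} : Set MG)) = 7 * 4030387200) ∨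
      Nat.card ↥(centralizer ({x} : Set MG)) = 7 ^ 5 * 5040 := by
  have hfin := finite
  have h7 : Nat.Prime 7 := by norm_num
  obtain ⟨g, hg⟩ := he
  have h1 : (g⁻¹ * x * g) * zz = zz * (g⁻¹ * x * g) := by
    calc (g⁻¹ * x * g) * zz = g⁻¹ * (x * (g * zz * g⁻¹)) * g := by group
      _ = g⁻¹ * ((g * zz * g⁻¹) * x) * g := by rw [hg]
      _ = zz * (g⁻¹ * x * g) := by group
  obtain ⟨x', hxx⟩ : ∃ x' : centralizer ({zz} : Set MG), (x' : MG) = g⁻¹ * x * g :=
    ⟨⟨g⁻¹ * x * g, mem_centralizer_singleton_iff.2 h1⟩, rfl⟩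
  have hxg : g⁻¹ * x * (g⁻¹)⁻¹ = (x' : MG) := by rw [inv_inv, hxx]
  have hxo : orderOf (x' : MG) = 7 := by
    rw [← hxg, ← hx]
    exact MulEquiv.orderOf_eq (MulAut.conj g⁻¹) x
  have hx' : orderOf x' = 7 := by rw [← Subgroup.orderOf_coe, hxo]
  have hc : Nat.card ↥(centralizer ({(x' : MG)} : Set MG)) = Nat.card ↥(centralizer ({x} : Set MG)) :=
    BpSpor.card_cent_of_conj hxg
  rcases CpAutMSeven.Ranks.hranks (pi x') (MFive.orderOf_pi chart h7 (by decide) hx') with h | h
  · right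
    obtain ⟨w, -, hw, hfw, -, hcw, -⟩ := exists_D7
    obtain ⟨g, i, hg⟩ := BpSevenCo.Conj.wclass (pi x') (pi w) (MFive.orderOf_pi chart h7 (by decide) hx')
      (MFive.orderOf_pi chart h7 (by decide) hw) h hfw
    obtain ⟨c, hcc⟩ := MFive.exists_conj_of_conj chart h7 (by decide) (x := x') (y := w ^ i)
      (by rw [← hx', pow_orderOf_eq_one])
      (by rw [← pow_mul, mul_comm, pow_mul, ← hw, pow_orderOf_eq_one, one_pow]) (s := g) (by rw [hg, map_pow])
    have h1 : (c : MG) * (x' : MG) * (c : MG)⁻¹ = (w : MG) ^ i := by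
      have := congrArg Subtype.val hcc
      exact this
    have h2 : (w : MG) ^ i ≠ 1 := by
      intro h3
      rw [h3, conj_eq_one_iff] at h1
      rw [h1, orderOf_one] at hxo
      norm_num at hxo
    rw [← hc, ← BpSpor.card_cent_of_conj h1, card_pow (by rw [Subgroup.orderOf_coe, hw]) h2]
    exact hcw
  · left
    obtain ⟨e⟩ := CpAutMSeven.ZeroComps.heSix x' hx' h
    refine ⟨x', hx', ⟨g⁻¹, hxg⟩, ⟨e⟩, ?_⟩
    rw [← hc, card_XX, hxo, Nat.card_congr e.toEquiv, Cfsg.Agent.S1695.result.2]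

/-- a normal 7-subgroup lies in the Sylow subgroup -/
theorem le_sylow {G : Type*} [Group G] {p : ℕ} [Fact p.Prime] (P : Sylow p G) {Q : Subgroup G}
    (hQ : IsPGroup p ↥Q) (hn : ∀ g ∈ (P : Subgroup G), ∀ q ∈ Q, g * q * g⁻¹ ∈ Q) : Q ≤ P := by
  have h1 : (P : Subgroup G) ≤ Subgroup.normalizer (Q : Set G) := by
    intro g hg
    rw [Subgroup.mem_normalizer_iff]
    intro q
    refine ⟨fun h => hn g hg q h, fun h => ?_⟩
    have h2 := hn g⁻¹ ((P : Subgroup G).inv_mem hg) _ h
    have e : g⁻¹ * (g * q * g⁻¹) * g⁻¹⁻¹ = q := by group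
    rwa [e] at h2
  have h2 : IsPGroup p ↥((P : Subgroup G) ⊔ Q : Subgroup G) := P.isPGroup'.to_sup_of_normal_right' hQ h1
  have h3 := P.is_maximal' h2 le_sup_left
  exact h3 ▸ le_sup_right

/-- **`7 ^ 6` does not divide `|C(x)|`**, `x` of order 7 not commuting with a conjugate of `z`. -/
theorem n76 {x : MG} (hx : orderOf x = 7) (he : ¬ Ev x) : ¬ 7 ^ 6 ∣ Nat.card ↥(centralizer ({x} : Set MG)) := by
  have hfin := finite
  have h7F : Fact (Nat.Prime 7) := ⟨by norm_num⟩
  intro hd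
  obtain ⟨w, Q, hw, hfr, hQ, -, ⟨a, ha, b, hb, hab⟩, ⟨P, hP⟩, -, hcen⟩ := exists_D7
  -- a Sylow subgroup in `C(x)`
  obtain ⟨S⟩ : Nonempty (Sylow 7 ↥(centralizer ({x} : Set MG))) := inferInstance
  have hS : 7 ^ 6 ∣ Nat.card ↥((S : Subgroup ↥(centralizer ({x} : Set MG))).map (centralizer ({x} : Set MG)).subtype) := by
    rw [Subgroup.card_map_of_injective (Subgroup.subtype_injective _)]
    exact S.pow_dvd_card_of_pow_dvd_card hd
  obtain ⟨S', hS'⟩ := (S.isPGroup'.map (centralizer ({x} : Set MG)).subtype).exists_le_sylow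
  have hS'c : Nat.card ↥(S' : Subgroup MG) ∣ 7 ^ 6 := by
    obtain ⟨j, hj⟩ := IsPGroup.iff_card.1 S'.isPGroup'
    rw [hj]
    refine pow_dvd_pow 7 ?_
    by_contra hcon
    have h1 : 7 ^ 7 ∣ Nat.card MG := by
      refine (pow_dvd_pow 7 (by omega : 7 ≤ j)).trans ?_
      rw [← hj]
      exact Subgroup.card_subgroup_dvd_card _
    rw [card_M] at h1
    norm_num at h1
  have hSS : (S : Subgroup ↥(centralizer ({x} : Set MG))).map (centralizer ({x} : Set MG)).subtype = S' :=
    Subgroup.eq_of_le_of_card_ge hS' (Nat.le_of_dvd Nat.card_pos (hS'c.trans hS))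
  have hS'x : (S' : Subgroup MG) ≤ centralizer ({x} : Set MG) := by
    rw [← hSS]
    exact Subgroup.map_subtype_le _
  obtain ⟨g, hg⟩ := MulAction.exists_smul_eq MG S' P
  have hPx : ∀ p ∈ (P : Subgroup MG), p * (g * x * g⁻¹) = (g * x * g⁻¹) * p := by
    intro p hp
    rw [← hg] at hp
    have h1 : g⁻¹ * p * g ∈ (S' : Subgroup MG) := by
      have h2 : p ∈ (S' : Subgroup MG).map (MulAut.conj g).toMonoidHom := hp
      obtain ⟨s, hs, rfl⟩ := h2
      have e : g⁻¹ * (MulAut.conj g).toMonoidHom s * g = s := by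
        show g⁻¹ * (g * s * g⁻¹) * g = s
        group
      rw [e]
      exact hs
    have h2 := mem_centralizer_singleton_iff.1 (hS'x h1)
    calc p * (g * x * g⁻¹) = g * ((g⁻¹ * p * g) * x) * g⁻¹ := by group
      _ = g * (x * (g⁻¹ * p * g)) * g⁻¹ := by rw [h2]
      _ = _ := by group
  have hQP : Q ≤ P := le_sylow P hQ.pgroup fun p hp q hq => hQ.norm p (mem_centralizer_singleton_iff.1 (hP hp)) q hq
  have hxQ : g * x * g⁻¹ ∈ Q := hcen _ (fun q hq => (hPx q (hQP hq)).symm) ⟨1, by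
    rw [pow_one, conj_pow, ← hx, pow_orderOf_eq_one, mul_one, mul_inv_cancel]⟩
  -- the centre of `Q`
  have hZ : Q ⊓ centralizer (Q : Set MG) = zpowers (w : MG) := by
    by_contra hne
    have h1 := hQ.irr (Q ⊓ centralizer (Q : Set MG)) (by
      intro d hd q hq
      refine ⟨hQ.norm d hd q hq.1, Subgroup.mem_centralizer_iff.2 ?_⟩
      intro r hr
      have hdi : d⁻¹ * (w : MG) = w * d⁻¹ := (show Commute d (w : MG) from hd).inv_left.eq
      have h2 := hQ.norm d⁻¹ hdi r hr
      have h3 := Subgroup.mem_centralizer_iff.1 hq.2 _ h2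
      rw [inv_inv] at h3
      calc r * (d * q * d⁻¹) = d * ((d⁻¹ * r * d) * q) * d⁻¹ := by group
        _ = d * (q * (d⁻¹ * r * d)) * d⁻¹ := by rw [h3]
        _ = d * q * d⁻¹ * r := by group) ⟨hQ.mem, Subgroup.mem_centralizer_iff.2 (by
      intro r hr
      exact mem_centralizer_singleton_iff.1 (hQ.le hr))⟩ inf_le_left hne
    apply hab
    have h2 : a ∈ Q ⊓ centralizer (Q : Set MG) := by rw [h1]; exact ha
    exact (Subgroup.mem_centralizer_iff.1 h2.2 b hb).symm
  have hxZ : g * x * g⁻¹ ∈ zpowers (w : MG) := by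
    rw [← hZ]
    exact ⟨hxQ, Subgroup.mem_centralizer_iff.2 (by
      intro r hr
      exact hPx r (hQP hr))⟩
  obtain ⟨i, hi⟩ := Subgroup.mem_zpowers_iff.1 hxZ
  have hwz : Commute (w : MG) zz := mem_centralizer_singleton_iff.1 w.2
  have h1 : Commute (g * x * g⁻¹) zz := by rw [← hi]; exact hwz.zpow_left i
  apply he
  refine ⟨g⁻¹, ?_⟩
  rw [inv_inv]
  calc g⁻¹ * zz * g * x = g⁻¹ * (zz * (g * x * g⁻¹)) * g := by group
    _ = g⁻¹ * ((g * x * g⁻¹) * zz) * g := by rw [h1.eq]
    _ = x * (g⁻¹ * zz * g) := by group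

/-- **Order 5 of fixed rank 0**: elements of prime order `p ≠ 2, 5` of `C(y)` -/
theorem five_zero {y : centralizer ({zz} : Set MG)} (hy : orderOf y = 5) (hfr : fr (pi y) = 1) {x : MG} {p : ℕ}
    (hp : p.Prime) (hp2 : p ≠ 2) (hp5 : p ≠ 5) (hx : orderOf x = p) (hxy : x * (y : MG) = y * x) :
    2 ∣ Nat.card ↥(centralizer ({x} : Set MG)) := by
  have := finite
  have hpf : Fact p.Prime := ⟨hp⟩
  set C := centralizer ({(y : MG)} : Set MG) with hC
  let K : Subgroup ↥C := centralizer ({zD y} : Set ↥C)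
  obtain ⟨e⟩ := CpAutBFive.Final.hJ (pi y) (MFive.orderOf_pi chart Nat.prime_five (by decide) hy) hfr
  have hc : Nat.card (XX (pi y)) = 604800 := by
    rw [Nat.card_congr e.toEquiv, Cfsg.Agent.J2Sylow.SporSylow.card_J2]
  have hy5 : y ^ 5 = 1 := by rw [← hy, pow_orderOf_eq_one]
  have hsurj : Function.Surjective (toXX pi y) := MFive.toXX_surj chart Nat.prime_five (by decide) hy5
  have h1 : 604800 ∣ Nat.card ↥K := by
    rw [← hc]
    exact Subgroup.card_dvd_of_surjective _ hsurj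
  have h2 := H58.MonFiveB.card_dvd hy hfr
  have h3 : K.index ∣ 5 ^ 7 * 2 := by
    obtain ⟨m, hm⟩ := h1
    have h4 := K.card_mul_index
    rw [hm] at h4
    have h5 : 604800 * (m * K.index) ∣ 604800 * (5 ^ 7 * 2) := by
      have : 604800 * (5 ^ 7 * 2) = 5 ^ 7 * (604800 * 2) := by norm_num
      rw [this, ← mul_assoc, h4]
      exact h2
    exact (dvd_mul_left _ _).trans (Nat.dvd_of_mul_dvd_mul_left (by norm_num) h5)
  have hidx : ¬ p ∣ K.index := by
    intro h4
    rcases (Nat.Prime.dvd_mul hp).1 (h4.trans h3) with h5 | h5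
    · exact hp5 ((Nat.prime_dvd_prime_iff_eq hp Nat.prime_five).1 (hp.dvd_of_dvd_pow h5))
    · exact hp2 ((Nat.prime_dvd_prime_iff_eq hp Nat.prime_two).1 h5)
  obtain ⟨g, hg⟩ := H533.T5.exists_conj_mem_of_index hidx (x := (⟨x, mem_centralizer_singleton_iff.2 hxy⟩ : ↥C))
    (by rw [Subgroup.orderOf_mk, hx])
  have h4 := congrArg Subtype.val (mem_centralizer_singleton_iff.1 hg)
  have h5 : ((g : MG) * x * (g : MG)⁻¹) * zz = zz * ((g : MG) * x * (g : MG)⁻¹) := h4
  have h6 : x * ((g : MG)⁻¹ * zz * g) = ((g : MG)⁻¹ * zz * g) * x := by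
    calc x * ((g : MG)⁻¹ * zz * g) = (g : MG)⁻¹ * (((g : MG) * x * (g : MG)⁻¹) * zz) * g := by group
      _ = (g : MG)⁻¹ * (zz * ((g : MG) * x * (g : MG)⁻¹)) * g := by rw [h5]
      _ = _ := by group
  have h7 : orderOf ((g : MG)⁻¹ * zz * g) = 2 := by
    have h8 := MulEquiv.orderOf_eq (MulAut.conj (g : MG)⁻¹) zz
    rw [MulAut.conj_apply, inv_inv] at h8
    rw [h8]
    exact orderOf_zz
  rw [← h7, ← Subgroup.orderOf_mk _ (mem_centralizer_singleton_iff.2 h6.symm)]
  exact orderOf_dvd_natCard _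

/-- **an element of order 7 commuting with an even element of order 5** -/
theorem even_of_five {y x : MG} (hy : orderOf y = 5) (he : Ev y) (hx : orderOf x = 7) (hxy : x * y = y * x) :
    2 ∣ Nat.card ↥(centralizer ({x} : Set MG)) := by
  have := finite
  have := simple
  obtain ⟨g, hg⟩ := he
  have h1 : (g⁻¹ * y * g) * zz = zz * (g⁻¹ * y * g) := by
    calc (g⁻¹ * y * g) * zz = g⁻¹ * (y * (g * zz * g⁻¹)) * g := by group
      _ = g⁻¹ * ((g * zz * g⁻¹) * y) * g := by rw [hg]
      _ = zz * (g⁻¹ * y * g) := by group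
  obtain ⟨y', hyy⟩ : ∃ y' : centralizer ({zz} : Set MG), (y' : MG) = g⁻¹ * y * g :=
    ⟨⟨g⁻¹ * y * g, mem_centralizer_singleton_iff.2 h1⟩, rfl⟩
  have hyo : orderOf (y' : MG) = 5 := by
    rw [hyy, ← hy]
    have := MulEquiv.orderOf_eq (MulAut.conj g⁻¹) y
    rwa [MulAut.conj_apply, inv_inv] at this
  have hy' : orderOf y' = 5 := by rw [← Subgroup.orderOf_coe, hyo]
  have hxy' : g⁻¹ * x * g * (y' : MG) = y' * (g⁻¹ * x * g) := by
    rw [hyy]
    calc g⁻¹ * x * g * (g⁻¹ * y * g) = g⁻¹ * (x * y) * g := by group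
      _ = g⁻¹ * (y * x) * g := by rw [hxy]
      _ = _ := by group
  have hxo : orderOf (g⁻¹ * x * g) = 7 := by
    rw [← hx]
    have := MulEquiv.orderOf_eq (MulAut.conj g⁻¹) x
    rwa [MulAut.conj_apply, inv_inv] at this
  have key : 2 ∣ Nat.card ↥(centralizer ({g⁻¹ * x * g} : Set MG)) := by
    rcases MFive.cases_five chart BpSpor.M5.trNe (CpAutBFive.Closed.coFive CpAutBFive.Final.hJ)
      CpAutBFive.Closed.hnEight BpSpor.M5.hasPair hy' with ⟨⟨e⟩⟩ | ⟨x₀, k, i, hx₀, hfr, hk⟩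
    · refine even_of_iso (p := 7) (by norm_num) hxo (by rw [hyo]; decide) (by rw [hyo]; norm_num) hxy' e ?_
      intro a ha
      have hfin : Finite Spor.HN := Nat.finite_of_card_ne_zero (by rw [Cfsg.Agent.S1701.result.2]; norm_num)
      rw [card_of_sylow (p := 7) (by norm_num) (by rw [Cfsg.Agent.S1701.result.2]; norm_num) ha
        Cfsg.Agent.H845.HNSeven.order_X7, Cfsg.Agent.H845.HNSeven.card_cent]
      norm_num
    · -- `k y' k⁻¹ = x₀ ^ i`
      have hx₀o : orderOf (x₀ : MG) = 5 := by rw [Subgroup.orderOf_coe, hx₀]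
      have h3 : orderOf ((x₀ : MG) ^ i) = 5 := by
        rw [← hk, ← hyo]
        exact MulEquiv.orderOf_eq (MulAut.conj k) (y' : MG)
      have h4 : k * (g⁻¹ * x * g) * k⁻¹ ∈ centralizer ({(x₀ : MG)} : Set MG) := by
        rw [← MFive.centralizer_pow Nat.prime_five hx₀o h3, mem_centralizer_singleton_iff, ← hk]
        calc k * (g⁻¹ * x * g) * k⁻¹ * (k * (y' : MG) * k⁻¹) = k * (g⁻¹ * x * g * (y' : MG)) * k⁻¹ := by group
          _ = k * ((y' : MG) * (g⁻¹ * x * g)) * k⁻¹ := by rw [hxy']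
          _ = _ := by group
      have h5 := five_zero hx₀ hfr (p := 7) (x := k * (g⁻¹ * x * g) * k⁻¹) (by norm_num) (by norm_num) (by norm_num) (by
        rw [← hxo]
        exact MulEquiv.orderOf_eq (MulAut.conj k) _) (mem_centralizer_singleton_iff.1 h4)
      rwa [BpSpor.card_cent_of_conj (rfl : k * (g⁻¹ * x * g) * k⁻¹ = k * (g⁻¹ * x * g) * k⁻¹)] at h5
  rwa [BpSpor.card_cent_of_conj (show g⁻¹ * x * (g⁻¹)⁻¹ = g⁻¹ * x * g by rw [inv_inv])] at key

/-- centralizers in the Held group -/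
theorem he_small {h : Spor.He} (hh : h ≠ 1) : Nat.card ↥(centralizer ({h} : Set Spor.He)) ≤ 118540800 := by
  have hcard : Nat.card Spor.He = 4030387200 := KFacts.He.Classes.card_he
  have hfin : Finite Spor.He := Nat.finite_of_card_ne_zero (by rw [hcard]; norm_num)
  have hs : IsSimpleGroup Spor.He := Cfsg.Agent.S1695.result.1
  have h172 : ¬ 17 ^ 2 ∣ Nat.card Spor.He := by rw [hcard]; norm_num
  have hf17 : Fact (Nat.Prime 17) := ⟨by norm_num⟩
  by_cases h17 : 17 ∣ Nat.card ↥(centralizer ({h} : Set Spor.He))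
  · obtain ⟨⟨u, huc⟩, hu⟩ := exists_prime_orderOf_dvd_card' 17 h17
    rw [Subgroup.orderOf_mk] at hu
    rw [mem_centralizer_singleton_iff] at huc
    have h1 : Nat.card ↥(centralizer ({u} : Set Spor.He)) = 17 := by
      rw [card_of_sylow (by norm_num) h172 hu H153.Zeros.He17.o17, H153.Zeros.He17.card_cent_eq]
    have h2 : orderOf h ∣ 17 := by
      rw [← h1]
      exact Subgroup.orderOf_dvd_natCard _ (mem_centralizer_singleton_iff.2 huc.symm)
    have h3 : orderOf h = 17 := by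
      rcases (Nat.dvd_prime (by norm_num : Nat.Prime 17)).1 h2 with h3 | h3
      · exact absurd (orderOf_eq_one_iff.1 h3) hh
      · exact h3
    rw [card_of_sylow (by norm_num) h172 h3 hu, h1]
    norm_num
  · have hne : centralizer ({h} : Set Spor.He) ≠ ⊤ := by
      intro ht
      have h1 : h ∈ Subgroup.center Spor.He := by
        rw [Subgroup.mem_center_iff]
        intro g
        have h2 : g ∈ centralizer ({h} : Set Spor.He) := by rw [ht]; trivial
        exact mem_centralizer_singleton_iff.1 h2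
      rw [Cfsg.Agent.CpAutHe.Seven.center_bot] at h1
      exact hh (Subgroup.mem_bot.1 h1)
    have hcm := (centralizer ({h} : Set Spor.He)).card_mul_index
    rw [hcard] at hcm
    have h1 : 17 ∣ (centralizer ({h} : Set Spor.He)).index := by
      have h2 : 17 ∣ Nat.card ↥(centralizer ({h} : Set Spor.He)) * (centralizer ({h} : Set Spor.He)).index := by
        rw [hcm]
        norm_num
      exact (((by norm_num : Nat.Prime 17).dvd_mul).1 h2).resolve_left h17
    have h2 : (centralizer ({h} : Set Spor.He)).index ≠ 17 := by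
      intro h3
      have hnc : ¬ IsMulCommutative Spor.He := by
        intro hc
        have h4 : h ∈ Subgroup.center Spor.He := by
          rw [Subgroup.mem_center_iff]
          intro g
          exact hc.is_comm.comm g h
        rw [Cfsg.Agent.CpAutHe.Seven.center_bot] at h4
        exact hh (Subgroup.mem_bot.1 h4)
      have h4 := Cfsg.Agent.SmallSimple.Embed.two_mul_card_dvd_factorial_index hnc _ hne
      rw [h3, hcard] at h4
      revert h4
      decide +kernel
    obtain ⟨m, hm⟩ := h1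
    have h3 : 2 ≤ m := by
      by_contra hcon
      interval_cases m
      · rw [hm, mul_zero, mul_zero] at hcm
        norm_num at hcm
      · exact h2 (by rw [hm])
    rw [hm] at hcm
    have h5 : Nat.card ↥(centralizer ({h} : Set Spor.He)) * (17 * 2) ≤ 4030387200 := by
      rw [← hcm]
      exact Nat.mul_le_mul_left _ (Nat.mul_le_mul_left _ h3)
    omega

end Cfsg.Agent.H537.TC
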