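import Cfsg.Agent.H537.TC.SevenA
import Cfsg.Agent.H58.Mon.Fin

/-!
# The Monster: the elements of order divisible by 7 (helper537)

* `noinv_seven` : `|C(x)|` divides `3 ^ 7 · 5 ^ 2 · 7 ^ 5`, `x` of order 7 not commuting with a conjugate of `z`;
* `seven_all` : `7 ∣ orderOf g → Ev g ∨ |C(g)| ≤ 918922725`.
-/

set_option autoImplicit false
set_option maxRecDepth 100000

namespace Cfsg.Agent.H537.TC

open Cfsg Cfsg.Agent.MonsterX Cfsg.Agent.MonsterX.InstData Cfsg.Agent.MonsterX.MainPack Cfsg.Agent.MonsterU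
open Cfsg.Agent.MonsterP Cfsg.Agent.MonsterN Cfsg.Agent.LThreeMB
open Cfsg.Agent.MonsterX.MainBasic Cfsg.Agent.MonsterX.MainSimple Cfsg.Agent.MonsterX.Model
open Cfsg.Agent.MonsterU.Lam2 Cfsg.Agent.MonsterU.TwoCls
open Cfsg.Agent.BpSpor.MBigModel Cfsg.Agent.H199.NSmMon
open Cfsg.Agent.H995.CopEngine (AllKnown)
open Cfsg.Spor (Co1)
open Subgroup (centralizer zpowers mem_centralizer_singleton_iff)
open Cfsg.Agent.H961.SevLift (QQ)
open Cfsg.Agent.H537.OreM

/-- **`5 ^ 3` does not divide `|C(x)|`**, `x` of order 7 with odd centralizer. -/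
theorem not_five_seven {x : MG} (hx : orderOf x = 7) (ho : ¬ 2 ∣ Nat.card ↥(centralizer ({x} : Set MG))) :
    ¬ 5 ^ (2 + 1) ∣ Nat.card ↥(centralizer ({x} : Set MG)) := by
  have := finite
  intro h
  obtain ⟨S, hS, hSe⟩ := H58.MonThirteen.exists_S
  obtain ⟨g, e, he, heN, heT⟩ := H199.NSmAbs.exists_common (p := 5) (n := 9) (a := 3) (b := 7) Nat.prime_five
    (by rw [card_M]; norm_num) (N := centralizer ({x} : Set MG)) (T := S) h hS (by norm_num)
  have h1 : Ev (g * e * g⁻¹) := hSe _ heT (by
    rw [← he]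
    exact orderOf_injective (MulAut.conj g).toMonoidHom (MulAut.conj g).injective e)
  have h2 : Ev e := by
    have := h1.conj g⁻¹
    have h3 : g⁻¹ * (g * e * g⁻¹) * g⁻¹⁻¹ = e := by group
    rwa [h3] at this
  exact ho (even_of_five he h2 hx (mem_centralizer_singleton_iff.1 heN).symm)

/-- **The elements of order 7 not commuting with a conjugate of `z`.** -/
theorem noinv_seven (hK : AllKnown.{0}) (hS : H715.Mon.Grp.SThree.{0}) {x : MG} (hx : orderOf x = 7) (he : ¬ Ev x) :
    Nat.card ↥(centralizer ({x} : Set MG)) ∣ 3 ^ 7 * 5 ^ 2 * 7 ^ 5 := by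
  have hfin : Finite MG := finite
  have h11 := H58.MonThirteen.not_eleven_seven hx
  have ho : ¬ 2 ∣ Nat.card ↥(centralizer ({x} : Set MG)) := fun h => he (MSevenT.hex7 x hx h)
  have hb : ∀ {r}, (r = 23 ∨ r = 31 ∨ r = 41 ∨ r = 47 ∨ r = 59) → ¬ r ∣ Nat.card ↥(centralizer ({x} : Set MG)) :=
    fun h => H199.AbMon.seven_not_dvd h hx
  have hc : ∀ {r}, (r = 13 ∨ r = 19 ∨ r = 29 ∨ r = 71) → ¬ r ∣ Nat.card ↥(centralizer ({x} : Set MG)) :=
    fun h => H58.MonFin.seven_not hK hS hx h
  have h17 := not_seventeen (fun u hu => (H715.Mon.Exact.card17 hS hu).trans (by norm_num)) hx ho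
  have g := dvd_card x
  have g := step (j := 0) (by norm_num) g (no_pow ho)
  have g := step (j := 7) (by norm_num) g (not_three_seven hx ho)
  have g := step (j := 2) (by norm_num) g (not_five_seven hx ho)
  have g := step (j := 5) (by norm_num) g (n76 hx he)
  have g := step (j := 0) (by norm_num) g (no_pow h11)
  have g := step (j := 0) (by norm_num) g (no_pow (hc (r := 13) (by simp)))
  have g := step (j := 0) (by norm_num) g (no_pow h17)
  have g := step (j := 0) (by norm_num) g (no_pow (hc (r := 19) (by simp)))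
  have g := step (j := 0) (by norm_num) g (no_pow (hb (r := 23) (by simp)))
  have g := step (j := 0) (by norm_num) g (no_pow (hc (r := 29) (by simp)))
  have g := step (j := 0) (by norm_num) g (no_pow (hb (r := 31) (by simp)))
  have g := step (j := 0) (by norm_num) g (no_pow (hb (r := 41) (by simp)))
  have g := step (j := 0) (by norm_num) g (no_pow (hb (r := 47) (by simp)))
  have g := step (j := 0) (by norm_num) g (no_pow (hb (r := 59) (by simp)))
  have g := step (j := 0) (by norm_num) g (no_pow (hc (r := 71) (by simp)))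
  refine g.trans ?_
  norm_num

/-- **Elements of order divisible by 7.** -/
theorem seven_all (hK : AllKnown.{0}) (hS : H715.Mon.Grp.SThree.{0}) {g : MG} (h7 : 7 ∣ orderOf g) :
    Ev g ∨ Nat.card ↥(centralizer ({g} : Set MG)) ≤ 918922725 := by
  have hfin : Finite MG := finite
  obtain ⟨m, hm⟩ := h7
  have hg0 : orderOf g ≠ 0 := (orderOf_pos g).ne'
  have hm0 : m ≠ 0 := by
    rintro rfl
    exact hg0 (by rw [hm])
  obtain ⟨x, hxd⟩ : ∃ x, x = g ^ m := ⟨_, rfl⟩
  have hx : orderOf x = 7 := by
    rw [hxd, orderOf_pow' g hm0, hm, Nat.gcd_eq_right (dvd_mul_left m 7), Nat.mul_div_cancel _ (Nat.pos_of_ne_zero hm0)]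
  have hle : centralizer ({g} : Set MG) ≤ centralizer ({x} : Set MG) := by
    intro c hc
    rw [mem_centralizer_singleton_iff] at hc ⊢
    rw [hxd]
    exact ((show Commute c g from hc).pow_right m).eq
  have hcle : Nat.card ↥(centralizer ({g} : Set MG)) ≤ Nat.card ↥(centralizer ({x} : Set MG)) :=
    Nat.le_of_dvd Nat.card_pos (Subgroup.card_dvd_of_le hle)
  by_cases he : Ev x
  · rcases cases7 hx he with ⟨x', hx', ⟨t, ht⟩, ⟨e⟩, hc⟩ | hc
    · -- the type `He`
      have hxo' : orderOf (x' : MG) = 7 := by rw [Subgroup.orderOf_coe, hx']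
      have hgx : g * x = x * g := by rw [hxd, ← pow_succ, ← pow_succ']
      have hgx' : (t * g * t⁻¹) * (x' : MG) = x' * (t * g * t⁻¹) := by
        rw [← ht]
        calc t * g * t⁻¹ * (t * x * t⁻¹) = t * (g * x) * t⁻¹ := by group
          _ = t * (x * g) * t⁻¹ := by rw [hgx]
          _ = _ := by group
      have hx'g : (t * g * t⁻¹) ^ m = x' := by rw [conj_pow, ← hxd, ht]
      obtain ⟨G, hG⟩ : ∃ G : ↥(centralizer ({(x' : MG)} : Set MG)), (G : MG) = t * g * t⁻¹ :=
        ⟨⟨_, mem_centralizer_singleton_iff.2 hgx'⟩, rfl⟩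
      obtain ⟨u, hu⟩ : ∃ u : XX (x' : MG), u = QuotientGroup.mk' (Zx (x' : MG)) G := ⟨_, rfl⟩
      by_cases hu1 : e u = 1
      · left
        have hu2 : u = 1 := e.injective (by rw [hu1, map_one])
        rw [hu] at hu2
        have h1 : G ∈ Zx (x' : MG) := (QuotientGroup.eq_one_iff _).1 hu2
        obtain ⟨i, hi⟩ := Subgroup.mem_zpowers_iff.1 h1
        have h2 : t * g * t⁻¹ = (x' : MG) ^ i := by
          rw [← hG, ← hi]
          rfl
        have h3 : Commute (t * g * t⁻¹) zz := by
          rw [h2]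
          exact (show Commute (x' : MG) zz from mem_centralizer_singleton_iff.1 x'.2).zpow_left i
        refine ⟨t⁻¹, ?_⟩
        rw [inv_inv]
        calc t⁻¹ * zz * t * g = t⁻¹ * (zz * (t * g * t⁻¹)) * t := by group
          _ = t⁻¹ * ((t * g * t⁻¹) * zz) * t := by rw [h3.eq]
          _ = g * (t⁻¹ * zz * t) := by group
      · right
        have h1 := he_small hu1
        -- the centralizer in the quotient
        have h2 : Nat.card ↥(centralizer ({u} : Set (XX (x' : MG)))) =
            Nat.card ↥(centralizer ({e u} : Set Spor.He)) := by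
          refine Nat.card_congr ⟨fun a => ⟨e a, ?_⟩, fun a => ⟨e.symm a, ?_⟩, fun a => Subtype.ext (e.symm_apply_apply _),
            fun a => Subtype.ext (e.apply_symm_apply _)⟩
          · rw [mem_centralizer_singleton_iff, ← map_mul, mem_centralizer_singleton_iff.1 a.2, map_mul]
          · rw [mem_centralizer_singleton_iff]
            apply e.injective
            rw [map_mul, map_mul, e.apply_symm_apply]
            exact mem_centralizer_singleton_iff.1 a.2
        have hCle : centralizer ({t * g * t⁻¹} : Set MG) ≤ centralizer ({(x' : MG)} : Set MG) := by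
          intro c hc
          rw [mem_centralizer_singleton_iff] at hc ⊢
          rw [← hx'g]
          exact ((show Commute c (t * g * t⁻¹) from hc).pow_right m).eq
        let φ : ↥(centralizer ({t * g * t⁻¹} : Set MG)) →* XX (x' : MG) :=
          (QuotientGroup.mk' (Zx (x' : MG))).comp (Subgroup.inclusion hCle)
        have hr : φ.range ≤ centralizer ({u} : Set (XX (x' : MG))) := by
          rintro _ ⟨c, rfl⟩
          rw [mem_centralizer_singleton_iff, hu]
          show QuotientGroup.mk' (Zx (x' : MG)) _ * QuotientGroup.mk' (Zx (x' : MG)) G =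
            QuotientGroup.mk' (Zx (x' : MG)) G * QuotientGroup.mk' (Zx (x' : MG)) _
          rw [← map_mul, ← map_mul]
          congr 1
          apply Subtype.ext
          show (c : MG) * (G : MG) = (G : MG) * (c : MG)
          rw [hG]
          exact mem_centralizer_singleton_iff.1 c.2
        have hk : Nat.card ↥φ.ker ∣ 7 := by
          have h3 : Nat.card ↥(φ.ker.map (Subgroup.inclusion hCle)) = Nat.card ↥φ.ker :=
            Subgroup.card_map_of_injective (Subgroup.inclusion_injective hCle)
          rw [← h3]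
          have h4 : φ.ker.map (Subgroup.inclusion hCle) ≤ Zx (x' : MG) := by
            rintro _ ⟨c, hc, rfl⟩
            exact (QuotientGroup.eq_one_iff _).1 hc
          refine (Subgroup.card_dvd_of_le h4).trans ?_
          rw [Zx, Nat.card_zpowers, LThreeMB.self, Subgroup.orderOf_mk, hxo']
        have h4 : Nat.card ↥(centralizer ({t * g * t⁻¹} : Set MG)) = Nat.card ↥φ.ker * Nat.card ↥φ.range := by
          rw [← φ.ker.card_mul_index, Subgroup.index_ker]
        have h5 : Nat.card ↥φ.range ≤ 118540800 := by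
          have hfx : Finite (XX (x' : MG)) := Finite.of_equiv _ e.symm.toEquiv
          refine (Nat.le_of_dvd Nat.card_pos (Subgroup.card_dvd_of_le hr)).trans ?_
          rw [h2]
          exact h1
        have h6 : Nat.card ↥φ.ker ≤ 7 := Nat.le_of_dvd (by norm_num) hk
        rw [← BpSpor.card_cent_of_conj (rfl : t * g * t⁻¹ = t * g * t⁻¹), h4]
        calc Nat.card ↥φ.ker * Nat.card ↥φ.range ≤ 7 * 118540800 := Nat.mul_le_mul h6 h5
          _ ≤ 918922725 := by norm_num
    · right
      rw [hc] at hcle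
      exact hcle.trans (by norm_num)
  · right
    exact hcle.trans ((Nat.le_of_dvd (by norm_num) (noinv_seven hK hS hx he)).trans (by norm_num))

end Cfsg.Agent.H537.TC
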